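import Mathlib.Algebra.Exact.Basic

/-!
# The Mayer–Vietoris sequence of a ladder with every third map bijective
-/

set_option autoImplicit false
set_option linter.unusedSectionVars false

universe v

namespace Groth.Agent.BlowMV5

variable {A B C B' C' A' : Type v} [AddCommGroup A] [AddCommGroup B] [AddCommGroup C]
  [AddCommGroup A'] [AddCommGroup B'] [AddCommGroup C']
  {A₂ B₂ A₂' B₂' C₂ C₂' : Type v} [AddCommGroup A₂] [AddCommGroup B₂] [AddCommGroup A₂'] [AddCommGroup B₂'] [AddCommGroup C₂]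
  [AddCommGroup C₂']

/-- Exactness at the middle term. -/
theorem exact_mid (α : A →+ B) (r : B →+ C) (d : C →+ A₂) (α' : A' →+ B') (r' : B' →+ C') (d' : C' →+ A₂')
    (β : A →+ A') (rb : B →+ B') (rc : C →+ C') (β₂ : A₂ →+ A₂')
    (hαr : Function.Exact α r) (hrd : Function.Exact r d) (hαr' : Function.Exact α' r') (hrd' : Function.Exact r' d')
    (hβ : Function.Surjective β) (hβ₂ : Function.Injective β₂)
    (h₁ : ∀ a, rb (α a) = α' (β a)) (h₂ : ∀ x, r' (rb x) = rc (r x)) (h₃ : ∀ c, d' (rc c) = β₂ (d c)) :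
    Function.Exact (fun x => (rb x, r x)) (fun uv : B' × C => r' uv.1 - rc uv.2) := by
  rintro ⟨u, v⟩
  constructor
  · intro h
    have h : r' u = rc v := sub_eq_zero.1 h
    have hv : d v = 0 := hβ₂ (by rw [← h₃, ← h, hrd'.apply_apply_eq_zero, map_zero])
    obtain ⟨x, rfl⟩ := (hrd v).1 hv
    obtain ⟨a', ha'⟩ := (hαr' (u - rb x)).1 (by rw [map_sub, h₂, h, sub_self])
    obtain ⟨a, rfl⟩ := hβ a'
    refine ⟨x + α a, Prod.ext ?_ ?_⟩
    · show rb (x + α a) = u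
      rw [map_add, h₁, ha', add_sub_cancel]
    · show r (x + α a) = r x
      rw [map_add, hαr.apply_apply_eq_zero, add_zero]
  · rintro ⟨x, hx⟩
    obtain ⟨rfl, rfl⟩ := Prod.ext_iff.1 hx
    exact sub_eq_zero.2 (h₂ x)

/-- Exactness at the third term. -/
theorem exact_right (r : B →+ C) (d : C →+ A₂) (α₂ : A₂ →+ B₂) (r' : B' →+ C') (d' : C' →+ A₂')
    (rc : C →+ C') (β₂ : A₂ ≃+ A₂')
    (hdα : Function.Exact d α₂) (hrd' : Function.Exact r' d')
    (h₃ : ∀ c, d' (rc c) = β₂ (d c)) :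
    Function.Exact (fun uv : B' × C => r' uv.1 - rc uv.2) (α₂.comp (β₂.symm.toAddMonoidHom.comp d')) := by
  intro c'
  constructor
  · intro h
    obtain ⟨v, hv⟩ := (hdα _).1 h
    have e : d' (c' - rc v) = 0 := by
      rw [map_sub, h₃, hv]
      exact sub_eq_zero.2 (β₂.apply_symm_apply _).symm
    obtain ⟨u, hu⟩ := (hrd' _).1 e
    refine ⟨(u, -v), ?_⟩
    show r' u - rc (-v) = c'
    rw [hu, map_neg, sub_neg_eq_add, sub_add_cancel]
  · rintro ⟨⟨u, v⟩, rfl⟩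
    show α₂ (β₂.symm (d' (r' u - rc v))) = 0
    rw [map_sub, hrd'.apply_apply_eq_zero, zero_sub, map_neg, map_neg, h₃, AddEquiv.symm_apply_apply,
      hdα.apply_apply_eq_zero, neg_zero]

/-- Exactness at the first term. -/
theorem exact_left (α₂ : A₂ →+ B₂) (r₂ : B₂ →+ C₂) (d' : C' →+ A₂') (α₂' : A₂' →+ B₂') (r₂' : B₂' →+ C₂')
    (β₂ : A₂ ≃+ A₂') (rb₂ : B₂ →+ B₂') (rc₂ : C₂ →+ C₂')
    (hαr : Function.Exact α₂ r₂) (hdα' : Function.Exact d' α₂')
    (h₁ : ∀ a, rb₂ (α₂ a) = α₂' (β₂ a)) :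
    Function.Exact (α₂.comp (β₂.symm.toAddMonoidHom.comp d')) (fun x => (rb₂ x, r₂ x)) := by
  intro x
  constructor
  · intro h
    obtain ⟨hb, hr⟩ := Prod.ext_iff.1 h
    change rb₂ x = 0 at hb
    obtain ⟨a, rfl⟩ := (hαr x).1 hr
    obtain ⟨c', hc'⟩ := (hdα' (β₂ a)).1 (by rw [← h₁, hb])
    exact ⟨c', show α₂ (β₂.symm (d' c')) = α₂ a by rw [hc', AddEquiv.symm_apply_apply]⟩
  · rintro ⟨c', rfl⟩
    refine Prod.ext ?_ (hαr.apply_apply_eq_zero _)
    show rb₂ (α₂ (β₂.symm (d' c'))) = 0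
    rw [h₁, AddEquiv.apply_symm_apply, hdα'.apply_apply_eq_zero]

end Groth.Agent.BlowMV5
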