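import Groth.Agent.Lib.BlowMV5.Supp
import Groth.Agent.Lib.BlowMV5.Chase
import Groth.Agent.Lib.EtAcyc24.BCDescent
import Groth.Agent.Lib.NearLA6.Sections
import Groth.Agent.Lib.BcMapQ6.GenericMain
import Groth.Agent.Lib.BcMapQ6.Ingredients
import Groth.Agent.Lib.LocAcycBC6.LocBC
import Groth.Agent.Lib.PBC24.CdFib
import Groth.Agent.Lib.BlowUpExist.Proper
import Groth.Agent.Lib.EffCartier.Dense

/-!
# The long exact sequence of a proper abstract blow-up square
-/

set_option autoImplicit false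
set_option linter.style.haveILetI false
set_option linter.unusedSectionVars false
set_option backward.isDefEq.respectTransparency false
set_option backward.isDefEq.respectTransparency.types false

universe u

open CategoryTheory CategoryTheory.Limits AlgebraicGeometry Opposite CategoryTheory.Abelian

noncomputable section

namespace Groth.Agent.BlowMV5

open Groth.Agent.EtStalk

section Iso

variable {X' X : Scheme.{u}} (b : X' ⟶ X) [IsProper b] (U : X.Opens) [IsIso (b ∣_ U)]

theorem isIso_snd {S : Scheme.{u}} (σ : S ⟶ X) (hσ : Set.range σ ⊆ Set.range U.ι) :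
    IsIso (pullback.snd b σ) := by
  let σU := IsOpenImmersion.lift U.ι σ hσ
  have hσU : σU ≫ U.ι = σ := IsOpenImmersion.lift_fac _ _ _
  have hr : Set.range (pullback.fst b σ) ⊆ Set.range (b ⁻¹ᵁ U).ι := by
    rw [Scheme.Opens.range_ι]
    rintro _ ⟨p, rfl⟩
    show b (pullback.fst b σ p) ∈ U
    rw [← Scheme.Hom.comp_apply, pullback.condition, Scheme.Hom.comp_apply]
    obtain ⟨y, hy⟩ := hσ ⟨pullback.snd b σ p, rfl⟩
    rw [← hy]
    exact y.2
  let l := IsOpenImmersion.lift (b ⁻¹ᵁ U).ι (pullback.fst b σ) hr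
  have hl : l ≫ (b ⁻¹ᵁ U).ι = pullback.fst b σ := IsOpenImmersion.lift_fac _ _ _
  have big : IsPullback (l ≫ (b ⁻¹ᵁ U).ι) (pullback.snd b σ) b (σU ≫ U.ι) := by
    rw [hl, hσU]
    exact IsPullback.of_hasPullback b σ
  have hw : l ≫ b ∣_ U = pullback.snd b σ ≫ σU := by
    rw [← cancel_mono U.ι, Category.assoc, Category.assoc, morphismRestrict_ι, ← Category.assoc, big.w]
  have sq : IsPullback l (pullback.snd b σ) (b ∣_ U) σU :=
    IsPullback.of_right big hw (isPullback_morphismRestrict b U).flip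
  exact MorphismProperty.of_isPullback (P := MorphismProperty.isomorphisms Scheme.{u}) sq ‹IsIso (b ∣_ U)›

variable (hBC : PBC24.ProperBC.{u}) (G : EtCoh.Ab X) (hG : EtCoh.IsTorsion G)
    (h0 : ∀ (Ω : Type u) [Field Ω] [IsSepClosed Ω] (ξ : Spec (CommRingCat.of Ω) ⟶ X),
      ξ (default : Spec (CommRingCat.of Ω)) ∉ U → IsZero ((EtCoh.stalk ξ).obj G))

include hBC hG h0 in
theorem isIso_unit : IsIso ((EtCoh.pullPushAdj b).unit.app G) := by
  refine NearLA6.isIso_of_points _ fun x => ?_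
  let R := Hens.Hsh (X.presheaf.stalk x)
  haveI : IsSepClosed (IsLocalRing.ResidueField R) :=
    (Hensel.IsStrictHenselization.isSepClosure (R := X.presheaf.stalk x) (S := R)).sep_closed
  let σ := Hens2.specOf X x R
  obtain ⟨T⟩ := StrictLim24.nonempty_strictSys X x R
  refine ⟨_, inferInstance, inferInstance, closedPt R ≫ σ, LocAcycBC6.closedPt_specOf x, ?_⟩
  by_cases hx : x ∈ U
  · haveI := isIso_snd b U σ (BcMapQ6.range_specOf_subset U hx)
    exact NearLA6.bijective_stalk_unit b T G (LocAcyc24.bijective_Hpull_of_isIso _ _ 0)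
  · let ξ := closedPt R ≫ σ
    have hξ : ξ default ∉ U := by rwa [LocAcycBC6.closedPt_specOf x]
    have h1 := AddCommGrpCat.subsingleton_of_isZero (h0 _ ξ hξ)
    obtain ⟨e⟩ := PBC24.nonempty_stalk_Rpush hBC b ξ ((EtCoh.pull b).obj G) (FieldBr3.isTorsion_pull' _ hG) 0
    have hz : IsZero ((EtCoh.pull (pullback.fst b ξ)).obj ((EtCoh.pull b).obj G)) := by
      rw [isZero_iff_stalk]
      intro K _ _ ζ
      refine IsZero.of_iso ?_ (asIso (stalkPull _ ζ _)).symm
      refine IsZero.of_iso ?_ (asIso (stalkPull b (ζ ≫ pullback.fst b ξ) _)).symm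
      refine h0 K _ ?_
      rw [Category.assoc, pullback.condition, ← Category.assoc, Scheme.Hom.comp_apply,
        Subsingleton.elim ((ζ ≫ pullback.snd b ξ) default) default]
      exact hξ
    have h2 : IsZero ((EtCoh.stalk ξ).obj ((EtCoh.push b).obj ((EtCoh.pull b).obj G))) :=
      IsZero.of_iso (IsZero.of_iso ((EtCoh.HF _ 0).map_isZero hz) e)
        ((EtCoh.stalk ξ).mapIso ((EtCoh.push b).rightDerivedZeroIsoSelf.app _).symm)
    have h3 := AddCommGrpCat.subsingleton_of_isZero h2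
    exact ⟨fun a c _ => @Subsingleton.elim _ h1 a c, fun c => ⟨0, @Subsingleton.elim _ h3 _ _⟩⟩

include hBC hG h0 in
/-- Pullback along a proper morphism is bijective on sheaves supported where it is an isomorphism. -/
theorem bijective_Hpull (p : ℕ) : Function.Bijective (EtCore.Hpull b G p) := by
  haveI := isIso_unit b U hBC G hG h0
  haveI : LocallyQuasiFinite ((b ⁻¹ᵁ U).ι ≫ b) := by
    rw [← morphismRestrict_ι]
    infer_instance
  refine (BcMapQ6.bijective_Hpull_of_vanish b G p fun q hq _ =>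
    PBC24.isZero_Rpush_of_supp hBC b (b ⁻¹ᵁ U) _ (FieldBr3.isTorsion_pull' _ hG) (fun Ω _ _ ξ hξ => ?_) q hq).1 p le_rfl
  refine IsZero.of_iso (h0 Ω (ξ ≫ b) ?_) (asIso (stalkPull b ξ _)).symm
  rw [Scheme.Hom.comp_apply]
  exact hξ

end Iso

section Square

variable {Z X X' E : Scheme.{u}} (i : Z ⟶ X) [IsClosedImmersion i] (b : X' ⟶ X) (j : E ⟶ X') [IsClosedImmersion j]
    (π : E ⟶ Z) (c : E ⟶ X) (hπ : π ≫ i = c) (hjb : j ≫ b = c) (F : EtCoh.Ab X)
    (hj : ∀ e : E, b (j e) ∈ Set.range i) (hj' : ∀ x' : X', b x' ∈ Set.range i → x' ∈ Set.range j)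

/-- Composition with a morphism of coefficients. -/
abbrev post {Y : Scheme.{u}} {G G' : EtCoh.Ab Y} (a : G ⟶ G') (p : ℕ) : EtCoh.H Y G p →+ EtCoh.H Y G' p :=
  AddMonoidHom.mk' (fun x => x.comp (Ext.mk₀ a) (add_zero p)) fun _ _ => Ext.add_comp _ _ _ _

theorem post_post {Y : Scheme.{u}} {G G' G'' : EtCoh.Ab Y} (a : G ⟶ G') (a' : G' ⟶ G'') (p : ℕ) (x : EtCoh.H Y G p) :
    post a' p (post a p x) = post (a ≫ a') p x := by
  show (x.comp (Ext.mk₀ a) (add_zero p)).comp (Ext.mk₀ a') (add_zero p) = x.comp (Ext.mk₀ (a ≫ a')) (add_zero p)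
  rw [Ext.comp_assoc_of_third_deg_zero, Ext.mk₀_comp_mk₀]

theorem post_injective {Y : Scheme.{u}} {G G' : EtCoh.Ab Y} (a : G ⟶ G') [IsIso a] (p : ℕ) :
    Function.Injective (post a p) := fun x y h => by
  have := congrArg (post (inv a) p) h
  rwa [post_post, post_post, IsIso.hom_inv_id, show post (𝟙 G) p x = x from Ext.comp_mk₀_id _,
    show post (𝟙 G) p y = y from Ext.comp_mk₀_id _] at this

theorem post_eq₃ {Y : Scheme.{u}} {G₀ G G' G'' : EtCoh.Ab Y} (a₀ : G₀ ⟶ G) (a : G ⟶ G') (a' : G' ⟶ G'')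
    (t : G₀ ⟶ G'') (p : ℕ) (x : EtCoh.H Y G₀ p) (h : t = a₀ ≫ a ≫ a') :
    post t p x = post a' p (post a p (post a₀ p x)) := by
  rw [post_post, post_post, h]

/-- Restriction to the closed subscheme as the composite with the edge map. -/
def eC {Z X : Scheme.{u}} (i : Z ⟶ X) [IsClosedImmersion i] (G : EtCoh.Ab Z) (p : ℕ) :
    EtCoh.H X ((EtCoh.push i).obj G) p ≃+ EtCoh.H Z G p :=
  AddEquiv.ofBijective (EtLim.HofPush i G p) (FieldH25.bijective_HofPush_integral i G p)

theorem eC_post_η {Z X : Scheme.{u}} (i : Z ⟶ X) [IsClosedImmersion i] (F : EtCoh.Ab X) (p : ℕ) (x : EtCoh.H X F p) :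
    eC i ((EtCoh.pull i).obj F) p (post (η i F) p x) = EtCore.Hpull i F p x :=
  FieldH25.HofPush_unit i F p x

/-- Composition with an extension class. -/
def bdry {Y : Scheme.{u}} {S : ShortComplex (EtCoh.Ab Y)} (hS : S.ShortExact) (p : ℕ) :
    EtCoh.H Y S.X₃ p →+ EtCoh.H Y S.X₁ (p + 1) :=
  AddMonoidHom.mk' (fun x => x.comp hS.extClass rfl) fun _ _ => Ext.add_comp _ _ _ _

theorem exact_post {Y : Scheme.{u}} {S : ShortComplex (EtCoh.Ab Y)} (hS : S.ShortExact) (p : ℕ) :
    Function.Exact (post S.f p) (post S.g p) := fun x =>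
  ⟨fun h => Ext.covariant_sequence_exact₂ _ hS x h, by
    rintro ⟨y, rfl⟩
    rw [post_post, S.zero]
    show y.comp (Ext.mk₀ 0) (add_zero p) = 0
    rw [Ext.mk₀_zero, Ext.comp_zero]⟩

theorem exact_bdry_right {Y : Scheme.{u}} {S : ShortComplex (EtCoh.Ab Y)} (hS : S.ShortExact) (p : ℕ) :
    Function.Exact (post S.g p) (bdry hS p) := fun x =>
  ⟨fun h => Ext.covariant_sequence_exact₃ _ hS x rfl h, by
    rintro ⟨y, rfl⟩
    exact (Ext.comp_assoc _ _ _ (add_zero p) (zero_add 1) (by lia)).trans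
      (by rw [hS.comp_extClass, Ext.comp_zero])⟩

theorem exact_bdry_left {Y : Scheme.{u}} {S : ShortComplex (EtCoh.Ab Y)} (hS : S.ShortExact) (p : ℕ) :
    Function.Exact (bdry hS p) (post S.f (p + 1)) := fun x =>
  ⟨fun h => Ext.covariant_sequence_exact₁ _ hS x h rfl, by
    rintro ⟨y, rfl⟩
    exact (Ext.comp_assoc _ _ _ rfl (add_zero 1) (by lia)).trans
      (by rw [hS.extClass_comp, Ext.comp_zero])⟩

/-- The comparison of the pullbacks to the exceptional locus. -/
abbrev τ (G : EtCoh.Ab X) : (EtCoh.pull j).obj ((EtCoh.pull b).obj G) ≅ (EtCoh.pull c).obj G :=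
  ((EtCore.pullComp j b).symm ≪≫ EtCore.pullCongr hjb).app G

/-- The third column of the bottom row. -/
def eE (p : ℕ) : EtCoh.H X' ((EtCoh.push j).obj ((EtCoh.pull j).obj ((EtCoh.pull b).obj F))) p ≃+
    EtCoh.H E ((EtCoh.pull c).obj F) p :=
  AddEquiv.ofBijective ((post (τ b j c hjb F).hom p).comp (eC j _ p).toAddMonoidHom)
    ⟨(post_injective _ p).comp (eC j _ p).injective, fun y =>
      ⟨(eC j _ p).symm (post (τ b j c hjb F).inv p y), by
        show post (τ b j c hjb F).hom p (eC j _ p ((eC j _ p).symm _)) = y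
        rw [AddEquiv.apply_symm_apply, post_post, Iso.inv_hom_id]
        exact Ext.comp_mk₀_id _⟩⟩

theorem eE_post_η (p : ℕ) (u : EtCoh.H X' ((EtCoh.pull b).obj F) p) :
    eE b j c hjb F p (post (η j ((EtCoh.pull b).obj F)) p u) = EtCore.HpullVia j b c hjb F p u := by
  show post (τ b j c hjb F).hom p (eC j _ p _) = _
  rw [eC_post_η]
  rfl

/-- The comparison morphism on the closed parts. -/
def θ : (EtCoh.pull b).obj ((EtCoh.push i).obj ((EtCoh.pull i).obj F)) ⟶
    (EtCoh.push j).obj ((EtCoh.pull j).obj ((EtCoh.pull b).obj F)) :=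
  haveI : Epi ((seq i F).map (EtCoh.pull b)).g :=
    haveI := (EtCoh.pullPushAdj b).leftAdjoint_preservesColimits
    inferInstanceAs (Epi ((EtCoh.pull b).map (η i F)))
  ((shortExact_seq i F).map_of_exact (EtCoh.pull b)).exact.desc (η j ((EtCoh.pull b).obj F)) (pull_seq_w i b j F hj)

theorem map_η_θ : (EtCoh.pull b).map (η i F) ≫ θ i b j F hj = η j ((EtCoh.pull b).obj F) := by
  haveI : Epi ((seq i F).map (EtCoh.pull b)).g :=
    haveI := (EtCoh.pullPushAdj b).leftAdjoint_preservesColimits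
    inferInstanceAs (Epi ((EtCoh.pull b).map (η i F)))
  exact ((shortExact_seq i F).map_of_exact (EtCoh.pull b)).exact.g_desc (η j ((EtCoh.pull b).obj F))
    (pull_seq_w i b j F hj)

set_option maxHeartbeats 1000000 in
include hπ hjb in
theorem compat (p : ℕ) (y : EtCoh.H X ((EtCoh.push i).obj ((EtCoh.pull i).obj F)) p) :
    EtCore.HpullVia π i c hπ F p (eC i _ p y) =
      eE b j c hjb F p (post (θ i b j F hj) p (EtCore.Hpull b _ p y)) := by
  let Q := (EtCoh.push i).obj ((EtCoh.pull i).obj F)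
  let εi := (EtCoh.pullPushAdj i).counit.app ((EtCoh.pull i).obj F)
  let εj := (EtCoh.pullPushAdj j).counit.app ((EtCoh.pull j).obj ((EtCoh.pull b).obj F))
  haveI : IsIso εi := inferInstance
  have tri : (EtCoh.pull i).map (η i F) ≫ εi = 𝟙 _ := (EtCoh.pullPushAdj i).left_triangle_components F
  have trj : (EtCoh.pull j).map (η j ((EtCoh.pull b).obj F)) ≫ εj = 𝟙 _ :=
    (EtCoh.pullPushAdj j).left_triangle_components _
  haveI : IsIso ((EtCoh.pull i).map (η i F)) := by
    haveI : IsIso ((EtCoh.pull i).map (η i F) ≫ εi) := by rw [tri]; infer_instance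
    exact IsIso.of_isIso_comp_right _ εi
  have hεi : εi ≫ (EtCoh.pull i).map (η i F) = 𝟙 ((EtCoh.pull i).obj Q) := by
    rw [show εi = inv ((EtCoh.pull i).map (η i F)) from IsIso.eq_inv_of_hom_inv_id tri]
    exact IsIso.inv_hom_id _
  haveI : IsIso ((EtCoh.pull c).map (η i F)) := by
    let τi := (EtCore.pullComp π i).symm ≪≫ EtCore.pullCongr hπ
    haveI : IsIso ((EtCoh.pull i ⋙ EtCoh.pull π).map (η i F)) :=
      inferInstanceAs (IsIso ((EtCoh.pull π).map ((EtCoh.pull i).map (η i F))))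
    exact (NatIso.isIso_map_iff τi _).1 inferInstance
  refine post_injective ((EtCoh.pull c).map (η i F)) p ?_
  have hl : post ((EtCoh.pull c).map (η i F)) p (EtCore.HpullVia π i c hπ F p (eC i _ p y)) =
      EtCore.Hpull c Q p y := by
    refine (EtAcyc24.HpullVia_nat π i c hπ (η i F) p _).trans ?_
    rw [← EtAcyc24.HpullVia_Hpull π i c hπ Q p y]
    refine congrArg _ ?_
    show post _ p (post εi p (EtCore.Hpull i Q p y)) = _
    rw [post_post, hεi]
    exact Ext.comp_mk₀_id _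
  rw [hl, ← EtAcyc24.HpullVia_Hpull j b c hjb Q p y]
  show post (τ b j c hjb Q).hom p (EtCore.Hpull j _ p (EtCore.Hpull b Q p y)) =
    post ((EtCoh.pull c).map (η i F)) p (post (τ b j c hjb F).hom p (EtLim.HofPush j _ p
      (post (θ i b j F hj) p (EtCore.Hpull b Q p y))))
  have hh : EtLim.HofPush j _ p (post (θ i b j F hj) p (EtCore.Hpull b Q p y)) =
      post ((EtCoh.pull j).map (θ i b j F hj) ≫ εj) p (EtCore.Hpull j _ p (EtCore.Hpull b Q p y)) := by
    rw [← post_post]
    show post εj p (EtCore.Hpull j _ p _) = _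
    refine congrArg (post εj p) ?_
    exact (LocAcyc24.Hpull_nat j (θ i b j F hj) p _).symm
  rw [hh]
  refine post_eq₃ _ _ _ _ p _ ?_
  haveI : Epi ((EtCoh.pull j).map ((EtCoh.pull b).map (η i F))) := by
    haveI h1 : (EtCoh.pull b).PreservesEpimorphisms := Functor.preservesEpimorphisms_of_adjunction (EtCoh.pullPushAdj b)
    haveI h2 : (EtCoh.pull j).PreservesEpimorphisms := Functor.preservesEpimorphisms_of_adjunction (EtCoh.pullPushAdj j)
    exact @Functor.map_epi _ _ _ _ (EtCoh.pull j) h2 _ _ _ (@Functor.map_epi _ _ _ _ (EtCoh.pull b) h1 _ _ (η i F) inferInstance)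
  refine (cancel_epi ((EtCoh.pull j).map ((EtCoh.pull b).map (η i F)))).1 ?_
  refine Eq.trans (((EtCore.pullComp j b).symm ≪≫ EtCore.pullCongr hjb).hom.naturality (η i F)) ?_
  have e : (EtCoh.pull j).map ((EtCoh.pull b).map (η i F)) ≫ (EtCoh.pull j).map (θ i b j F hj) ≫ εj = 𝟙 _ := by
    rw [← (EtCoh.pull j).map_comp_assoc, map_η_θ, trj]
  show (τ b j c hjb F).hom ≫ (EtCoh.pull c).map (η i F) = _
  simp only [Category.assoc]
  rw [reassoc_of% e]

include hπ in
theorem bdry_compat (p : ℕ) (y : EtCoh.H X ((EtCoh.push i).obj ((EtCoh.pull i).obj F)) p) :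
    bdry (shortExact_seq' i b j F hj hj') p (post (θ i b j F hj) p (EtCore.Hpull b _ p y)) =
      EtCore.Hpull b (kernel (η i F)) (p + 1) (bdry (shortExact_seq i F) p y) := by
  let φ : (seq i F).map (EtCoh.pull b) ⟶ seq' i b j F hj :=
    { τ₁ := 𝟙 _
      τ₂ := 𝟙 _
      τ₃ := θ i b j F hj
      comm₁₂ := (Category.id_comp _).trans (Category.comp_id _).symm
      comm₂₃ := (Category.id_comp _).trans (map_η_θ i b j F hj).symm }
  have hn := ShortComplex.ShortExact.extClass_naturality ((shortExact_seq i F).map_of_exact (EtCoh.pull b))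
    (shortExact_seq' i b j F hj hj') φ
  show (((EtCore.Hpull b _ p y).comp (Ext.mk₀ (θ i b j F hj)) (add_zero p))).comp _ rfl =
    EtCore.Hpull b _ (p + 1) (y.comp (shortExact_seq i F).extClass rfl)
  rw [Hpull_eq, Hpull_eq, Ext.mapExactFunctor_comp, Ext.mapExactFunctor_extClass,
    Ext.comp_assoc_of_second_deg_zero, ← hn, Ext.comp_mk₀_id]
  exact (Ext.comp_assoc _ _ _ (zero_add p) rfl (by lia))

include hπ hjb hj hj' in
/-- The long exact sequence. -/
theorem exists_longExact (hb : ∀ p, Function.Bijective (EtCore.Hpull b (kernel (η i F)) p)) :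
    ∃ δ : ∀ p : ℕ, EtCoh.H E ((EtCoh.pull c).obj F) p →+ EtCoh.H X F (p + 1),
      Function.Injective (fun e : EtCoh.H X F 0 => (EtCore.Hpull b F 0 e, EtCore.Hpull i F 0 e)) ∧
      ∀ p : ℕ,
        Function.Exact
          (fun e : EtCoh.H X F p => (EtCore.Hpull b F p e, EtCore.Hpull i F p e))
          (fun uv : EtCoh.H X' ((EtCoh.pull b).obj F) p × EtCoh.H Z ((EtCoh.pull i).obj F) p =>
            EtCore.HpullVia j b c hjb F p uv.1 - EtCore.HpullVia π i c hπ F p uv.2) ∧
        Function.Exact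
          (fun uv : EtCoh.H X' ((EtCoh.pull b).obj F) p × EtCoh.H Z ((EtCoh.pull i).obj F) p =>
            EtCore.HpullVia j b c hjb F p uv.1 - EtCore.HpullVia π i c hπ F p uv.2)
          (δ p) ∧
        Function.Exact (δ p)
          (fun e : EtCoh.H X F (p + 1) => (EtCore.Hpull b F (p + 1) e, EtCore.Hpull i F (p + 1) e)) := by
  let hS := shortExact_seq i F
  let hS' := shortExact_seq' i b j F hj hj'
  let β (q : ℕ) := AddEquiv.ofBijective (EtCore.Hpull b (kernel (η i F)) q) (hb q)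
  let α (q : ℕ) := post (seq i F).f q
  let α' (q : ℕ) := post (seq' i b j F hj).f q
  let d (q : ℕ) : EtCoh.H Z ((EtCoh.pull i).obj F) q →+ _ :=
    (bdry hS q).comp (eC i _ q).symm.toAddMonoidHom
  let d' (q : ℕ) : EtCoh.H E ((EtCoh.pull c).obj F) q →+ _ :=
    (bdry hS' q).comp (eE b j c hjb F q).symm.toAddMonoidHom
  have r_eq : ∀ q x, EtCore.Hpull i F q x = eC i _ q (post (η i F) q x) := fun q x => (eC_post_η i F q x).symm
  have r'_eq : ∀ q x, EtCore.HpullVia j b c hjb F q x = eE b j c hjb F q (post (η j _) q x) := fun q x =>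
    (eE_post_η b j c hjb F q x).symm
  have h1 : ∀ q a, EtCore.Hpull b F q (α q a) = α' q (β q a) := fun q a =>
    (LocAcyc24.Hpull_nat b (seq i F).f q a).symm
  have h2 : ∀ q x, EtCore.HpullVia j b c hjb F q (EtCore.Hpull b F q x) =
      EtCore.HpullVia π i c hπ F q (EtCore.Hpull i F q x) := fun q x =>
    (EtAcyc24.HpullVia_Hpull j b c hjb F q x).trans (EtAcyc24.HpullVia_Hpull π i c hπ F q x).symm
  have h3 : ∀ q v, d' q (EtCore.HpullVia π i c hπ F q v) = β (q + 1) (d q v) := fun q v => by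
    obtain ⟨y, rfl⟩ := (eC i _ q).surjective v
    show bdry hS' q ((eE b j c hjb F q).symm _) = EtCore.Hpull b _ (q + 1) (bdry hS q ((eC i _ q).symm _))
    rw [compat i b j π c hπ hjb F hj, AddEquiv.symm_apply_apply, AddEquiv.symm_apply_apply]
    exact bdry_compat i b j π c hπ F hj hj' q y
  have x1 : ∀ q, Function.Exact (α q) (EtCore.Hpull i F q) := fun q x => by
    rw [r_eq, AddEquiv.map_eq_zero_iff]
    exact exact_post hS q x
  have x1' : ∀ q, Function.Exact (α' q) (EtCore.HpullVia j b c hjb F q) := fun q x => by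
    rw [r'_eq, AddEquiv.map_eq_zero_iff]
    exact exact_post hS' q x
  have x2 : ∀ q, Function.Exact (EtCore.Hpull i F q) (d q) := fun q v => by
    obtain ⟨y, rfl⟩ := (eC i _ q).surjective v
    show bdry hS q ((eC i _ q).symm (eC i _ q y)) = 0 ↔ _
    rw [AddEquiv.symm_apply_apply]
    refine (exact_bdry_right hS q y).trans ⟨?_, ?_⟩
    · rintro ⟨x, rfl⟩; exact ⟨x, r_eq q x⟩
    · rintro ⟨x, hx⟩; exact ⟨x, (eC i _ q).injective ((r_eq q x).symm.trans hx)⟩
  have x2' : ∀ q, Function.Exact (EtCore.HpullVia j b c hjb F q) (d' q) := fun q v => by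
    obtain ⟨y, rfl⟩ := (eE b j c hjb F q).surjective v
    show bdry hS' q ((eE b j c hjb F q).symm (eE b j c hjb F q y)) = 0 ↔ _
    rw [AddEquiv.symm_apply_apply]
    refine (exact_bdry_right hS' q y).trans ⟨?_, ?_⟩
    · rintro ⟨x, rfl⟩; exact ⟨x, r'_eq q x⟩
    · rintro ⟨x, hx⟩; exact ⟨x, (eE b j c hjb F q).injective ((r'_eq q x).symm.trans hx)⟩
  have x3 : ∀ q, Function.Exact (d q) (α (q + 1)) := fun q a => by
    refine (exact_bdry_left hS q a).trans ⟨?_, ?_⟩
    · rintro ⟨y, rfl⟩; exact ⟨eC i _ q y, congrArg (bdry hS q) ((eC i _ q).symm_apply_apply y)⟩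
    · rintro ⟨v, hv⟩; exact ⟨_, hv⟩
  have x3' : ∀ q, Function.Exact (d' q) (α' (q + 1)) := fun q a => by
    refine (exact_bdry_left hS' q a).trans ⟨?_, ?_⟩
    · rintro ⟨y, rfl⟩; exact ⟨eE b j c hjb F q y, congrArg (bdry hS' q) ((eE b j c hjb F q).symm_apply_apply y)⟩
    · rintro ⟨v, hv⟩; exact ⟨_, hv⟩
  refine ⟨fun p => (α (p + 1)).comp ((β (p + 1)).symm.toAddMonoidHom.comp (d' p)), ?_, fun p => ⟨?_, ?_, ?_⟩⟩
  · refine (injective_iff_map_eq_zero (AddMonoidHom.prod (EtCore.Hpull b F 0) (EtCore.Hpull i F 0))).2 fun x hx => ?_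
    obtain ⟨hu, hv⟩ := Prod.ext_iff.1 hx
    obtain ⟨a, rfl⟩ := (x1 0 x).1 hv
    have ha : α' 0 (β 0 a) = 0 := (h1 0 a).symm.trans hu
    haveI : Mono ((seq' i b j F hj).f) := hS'.mono_f
    obtain ⟨g, hg⟩ := (Ext.mk₀_bijective _ _).2 (β 0 a)
    have hg' : g ≫ (seq' i b j F hj).f = 0 := by
      refine (Ext.mk₀_bijective _ _).1 ?_
      rw [← Ext.mk₀_comp_mk₀, hg, Ext.mk₀_zero]
      exact ha
    have hg0 : g = 0 := by rwa [← cancel_mono ((seq' i b j F hj).f), zero_comp]
    rw [hg0, Ext.mk₀_zero] at hg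
    rw [(β 0).map_eq_zero_iff.1 hg.symm, map_zero]
  · exact exact_mid (α p) (EtCore.Hpull i F p) (d p) (α' p) (EtCore.HpullVia j b c hjb F p) (d' p)
      (β p).toAddMonoidHom (EtCore.Hpull b F p) (EtCore.HpullVia π i c hπ F p) (β (p + 1)).toAddMonoidHom
      (x1 p) (x2 p) (x1' p) (x2' p) (β p).surjective (β (p + 1)).injective (h1 p) (h2 p) (h3 p)
  · exact exact_right (EtCore.Hpull i F p) (d p) (α (p + 1)) (EtCore.HpullVia j b c hjb F p) (d' p)
      (EtCore.HpullVia π i c hπ F p) (β (p + 1)) (x3 p) (x2' p) (h3 p)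
  · exact exact_left (α (p + 1)) (EtCore.Hpull i F (p + 1)) (d' p) (α' (p + 1))
      (EtCore.HpullVia j b c hjb F (p + 1)) (β (p + 1)) (EtCore.Hpull b F (p + 1))
      (EtCore.HpullVia π i c hπ F (p + 1)) (x1 (p + 1)) (x3' p) (h1 (p + 1))

end Square

/-- The long exact sequence of a blow-up with centre of finite type. -/
theorem exists_longExact_blowUp (hBC : PBC24.ProperBC.{u}) {X X' : Scheme.{u}} (I : X.IdealSheafData)
    (hI : BlowUp.IsFiniteTypeIdeal I) (b : X' ⟶ X) (hb : BlowUp.IsBlowUp b I)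
    (F : EtCoh.Ab X) (hF : EtCoh.IsTorsion F) :
    ∃ δ : ∀ p : ℕ, EtCoh.H (pullback b I.subschemeι)
        ((EtCoh.pull (pullback.fst b I.subschemeι ≫ b)).obj F) p →+ EtCoh.H X F (p + 1),
      Function.Injective (fun e : EtCoh.H X F 0 =>
        (EtCore.Hpull b F 0 e, EtCore.Hpull I.subschemeι F 0 e)) ∧
      ∀ p : ℕ,
        Function.Exact
          (fun e : EtCoh.H X F p => (EtCore.Hpull b F p e, EtCore.Hpull I.subschemeι F p e))
          (fun uv : EtCoh.H X' ((EtCoh.pull b).obj F) p × EtCoh.H I.subscheme ((EtCoh.pull I.subschemeι).obj F) p =>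
            EtCore.HpullVia (pullback.fst b I.subschemeι) b (pullback.fst b I.subschemeι ≫ b) rfl F p uv.1 -
            EtCore.HpullVia (pullback.snd b I.subschemeι) I.subschemeι (pullback.fst b I.subschemeι ≫ b)
              pullback.condition.symm F p uv.2) ∧
        Function.Exact
          (fun uv : EtCoh.H X' ((EtCoh.pull b).obj F) p × EtCoh.H I.subscheme ((EtCoh.pull I.subschemeι).obj F) p =>
            EtCore.HpullVia (pullback.fst b I.subschemeι) b (pullback.fst b I.subschemeι ≫ b) rfl F p uv.1 -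
            EtCore.HpullVia (pullback.snd b I.subschemeι) I.subschemeι (pullback.fst b I.subschemeι ≫ b)
              pullback.condition.symm F p uv.2)
          (δ p) ∧
        Function.Exact (δ p)
          (fun e : EtCoh.H X F (p + 1) =>
            (EtCore.Hpull b F (p + 1) e, EtCore.Hpull I.subschemeι F (p + 1) e)) := by
  haveI := BlowUpExist.isProper hI hb
  haveI := EffCartier.isIso_blowUp_restrict hb
  haveI : IsClosedImmersion (pullback.fst b I.subschemeι) := inferInstance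
  have hr : Set.range (pullback.fst b I.subschemeι) = b ⁻¹' Set.range I.subschemeι :=
    Scheme.Pullback.range_fst (f := b) (g := I.subschemeι)
  refine exists_longExact I.subschemeι b (pullback.fst b I.subschemeι) (pullback.snd b I.subschemeι) _
    pullback.condition.symm rfl F (fun e => hr.le ⟨e, rfl⟩) (fun x' h => hr.ge h) fun p => ?_
  refine bijective_Hpull b (EffCartier.cmpl I) hBC _ (isTorsion_kernel _ hF) (fun Ω _ _ ξ hξ => ?_) p
  refine isZero_stalk_kernel I.subschemeι F ξ ?_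
  rw [Scheme.IdealSheafData.range_subschemeι]
  exact not_not.1 hξ

end Groth.Agent.BlowMV5

end
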