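import Groth.Agent.Lib.EtStalk.HofPush
import Groth.Agent.Lib.EtStalk.OpenImm
import Groth.Agent.Lib.FieldH25.Transfer
import Groth.Prelude.Def_EtCore

/-!
# The sheaves supported off a closed subscheme
-/

set_option autoImplicit false
set_option linter.style.haveILetI false
set_option linter.unusedSectionVars false
set_option backward.isDefEq.respectTransparency false
set_option backward.isDefEq.respectTransparency.types false

universe u

open CategoryTheory CategoryTheory.Limits AlgebraicGeometry Opposite CategoryTheory.Abelian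

noncomputable section

namespace Groth.Agent.BlowMV5

open Groth.Agent.EtStalk

variable {Z X : Scheme.{u}} (i : Z ⟶ X) [IsClosedImmersion i]

/-- The unit of a closed immersion. -/
abbrev η (F : EtCoh.Ab X) : F ⟶ (EtCoh.push i).obj ((EtCoh.pull i).obj F) := (EtCoh.pullPushAdj i).unit.app F

theorem bijective_stalk_η (F : EtCoh.Ab X) {Ω : Type u} [Field Ω] [IsSepClosed Ω]
    (ζ : Spec (CommRingCat.of Ω) ⟶ Z) : Function.Bijective ((EtCoh.stalk (ζ ≫ i)).map (η i F)) := by
  haveI : IsIso ((EtCoh.stalk (ζ ≫ i)).map (η i F) ≫ pushStalk i ζ ((EtCoh.pull i).obj F)) := by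
    rw [unit_pushStalk]
    infer_instance
  haveI := IsIso.of_isIso_comp_right ((EtCoh.stalk (ζ ≫ i)).map (η i F)) (pushStalk i ζ ((EtCoh.pull i).obj F))
  exact ConcreteCategory.bijective_of_isIso _

instance epi_η (F : EtCoh.Ab X) : Epi (η i F) := by
  rw [epi_iff_stalk]
  intro Ω _ _ ξ
  by_cases h : ξ (default : Spec (CommRingCat.of Ω)) ∈ Set.range i
  · obtain ⟨ζ, rfl⟩ := exists_lift_point i ξ h
    exact (bijective_stalk_η i F ζ).2
  · have := AddCommGrpCat.subsingleton_of_isZero (stalk_push_isZero i ((EtCoh.pull i).obj F) ξ h)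
    exact fun y => ⟨0, @Subsingleton.elim _ this _ _⟩

/-- The part supported off the closed subscheme. -/
abbrev seq (F : EtCoh.Ab X) : ShortComplex (EtCoh.Ab X) :=
  ShortComplex.mk (kernel.ι (η i F)) (η i F) (kernel.condition _)

theorem shortExact_seq (F : EtCoh.Ab X) : (seq i F).ShortExact :=
  ShortComplex.ShortExact.mk' (ShortComplex.exact_of_f_is_kernel _ (kernelIsKernel _)) inferInstance (epi_η i F)

theorem isZero_stalk_kernel (F : EtCoh.Ab X) {Ω : Type u} [Field Ω] [IsSepClosed Ω]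
    (ξ : Spec (CommRingCat.of Ω) ⟶ X) (h : ξ (default : Spec (CommRingCat.of Ω)) ∈ Set.range i) :
    IsZero ((EtCoh.stalk ξ).obj (kernel (η i F))) := by
  obtain ⟨ζ, rfl⟩ := exists_lift_point i ξ h
  refine @AddCommGrpCat.isZero_of_subsingleton _ (subsingleton_of_forall_eq 0 fun z => ?_)
  have hm : Mono ((EtCoh.stalk (ζ ≫ i)).map (kernel.ι (η i F))) := inferInstance
  refine (AddCommGrpCat.mono_iff_injective _).1 hm ((bijective_stalk_η i F ζ).1 ?_)
  have h0 : (EtCoh.stalk (ζ ≫ i)).map (kernel.ι (η i F)) ≫ (EtCoh.stalk (ζ ≫ i)).map (η i F) = 0 := by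
    rw [← Functor.map_comp, kernel.condition, Functor.map_zero]
  rw [map_zero, map_zero]
  exact ConcreteCategory.congr_hom h0 z

theorem surjective_stalk_kernel (F : EtCoh.Ab X) {Ω : Type u} [Field Ω] [IsSepClosed Ω]
    (ξ : Spec (CommRingCat.of Ω) ⟶ X) (h : ξ (default : Spec (CommRingCat.of Ω)) ∉ Set.range i) :
    Function.Surjective ((EtCoh.stalk ξ).map (kernel.ι (η i F))) := fun y => by
  have he := (ShortComplex.ab_exact_iff _).1 ((exact_iff_stalk _).1 (shortExact_seq i F).exact Ω ξ)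
  exact he y (@Subsingleton.elim _ (AddCommGrpCat.subsingleton_of_isZero
    (stalk_push_isZero i ((EtCoh.pull i).obj F) ξ h)) _ _)

/-- Subsheaves of torsion sheaves are torsion. -/
theorem isTorsion_kernel {G G' : EtCoh.Ab X} (φ : G ⟶ G') (hG : EtCoh.IsTorsion G) :
    EtCoh.IsTorsion (kernel φ) := by
  intro U s x
  obtain ⟨V, g, hv, hfin⟩ := hG U ((kernel.ι φ).hom.app (op U) s) x
  refine ⟨V, g, hv, ?_⟩
  haveI : Mono ((kernel.ι φ).hom.app (op V)) :=
    inferInstanceAs (Mono (((sheafToPresheaf _ _) ⋙ (evaluation _ _).obj (op V)).map (kernel.ι φ)))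
  rw [← NatTrans.naturality_apply] at hfin
  obtain ⟨n, hn, h⟩ := isOfFinAddOrder_iff_nsmul_eq_zero.1 hfin
  refine isOfFinAddOrder_iff_nsmul_eq_zero.2
    ⟨n, hn, (AddCommGrpCat.mono_iff_injective ((kernel.ι φ).hom.app (op V))).1 inferInstance ?_⟩
  rw [map_nsmul, map_zero]
  exact h

section Square

variable {E X' : Scheme.{u}} (b : X' ⟶ X) (j : E ⟶ X') [IsClosedImmersion j] (F : EtCoh.Ab X)

theorem isZero_pull_pull (hj : ∀ e : E, b (j e) ∈ Set.range i) :
    IsZero ((EtCoh.pull j).obj ((EtCoh.pull b).obj (kernel (η i F)))) := by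
  rw [isZero_iff_stalk]
  intro Ω _ _ ξ
  refine IsZero.of_iso ?_ (asIso (stalkPull j ξ _)).symm
  refine IsZero.of_iso ?_ (asIso (stalkPull b (ξ ≫ j) _)).symm
  refine isZero_stalk_kernel i F _ ?_
  rw [Scheme.Hom.comp_apply, Scheme.Hom.comp_apply]
  exact hj _

variable (hj : ∀ e : E, b (j e) ∈ Set.range i)

include hj in
theorem pull_seq_w : (EtCoh.pull b).map (kernel.ι (η i F)) ≫ η j ((EtCoh.pull b).obj F) = 0 :=
  ((EtCoh.pullPushAdj j).unit.naturality ((EtCoh.pull b).map (kernel.ι (η i F)))).trans (by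
    rw [(Functor.map_isZero (EtCoh.push j) (isZero_pull_pull i b j F hj)).eq_of_tgt
      ((EtCoh.pullPushAdj j).unit.app ((EtCoh.pull b).obj (kernel (η i F)))) 0, zero_comp])

/-- The pulled back sequence. -/
abbrev seq' : ShortComplex (EtCoh.Ab X') :=
  ShortComplex.mk ((EtCoh.pull b).map (kernel.ι (η i F))) (η j ((EtCoh.pull b).obj F)) (pull_seq_w i b j F hj)

theorem shortExact_seq' (hj' : ∀ x' : X', b x' ∈ Set.range i → x' ∈ Set.range j) :
    (seq' i b j F hj).ShortExact := by
  haveI : Mono ((EtCoh.pull b).map (kernel.ι (η i F))) := mono_pull_map b _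
  refine ShortComplex.ShortExact.mk' ?_ inferInstance (epi_η j _)
  rw [exact_iff_stalk]
  intro Ω _ _ ξ
  refine (ShortComplex.ab_exact_iff _).2 fun x hx => ?_
  change (EtCoh.stalk ξ).map (η j ((EtCoh.pull b).obj F)) x = 0 at hx
  by_cases h : ξ (default : Spec (CommRingCat.of Ω)) ∈ Set.range j
  · obtain ⟨ζ, rfl⟩ := exists_lift_point j ξ h
    refine ⟨0, ?_⟩
    rw [map_zero]
    exact ((bijective_stalk_η j _ ζ).1 (hx.trans (map_zero _).symm)).symm
  · have hb : (ξ ≫ b) (default : Spec (CommRingCat.of Ω)) ∉ Set.range i := fun hm =>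
      h (hj' _ (by rwa [Scheme.Hom.comp_apply] at hm))
    obtain ⟨y, hy⟩ := (ConcreteCategory.bijective_of_isIso (stalkPull b ξ F)).2 x
    obtain ⟨g, hg⟩ := surjective_stalk_kernel i F (ξ ≫ b) hb y
    exact ⟨stalkPull b ξ _ g, (ConcreteCategory.congr_hom (stalkPull_nat b ξ (kernel.ι (η i F))) g).trans
      ((congrArg (stalkPull b ξ F) hg).trans hy)⟩

end Square

end Groth.Agent.BlowMV5

end
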